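import Groth.Agent.Misc13.NumTriv.Reg

/-!
# Families of invertible modules with bounded intersection numbers: generalities

`Fam k P`: `P` consists of invertible modules, is stable under inverses, has bounded degrees on
one-dimensional modules and self-intersections bounded below on surfaces.
`Bd k P q F`: the twists of `F` by the members of `P` have boundedly large `H^q`.
-/

set_option autoImplicit false
set_option linter.unusedSectionVars false

universe u

open CategoryTheory CategoryTheory.Limits AlgebraicGeometry TopologicalSpace Opposite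

namespace Groth.Misc13.Kleiman

open Groth.Inter Groth.PicAux Groth.HilbStab Groth.PropsBasic.Ample

variable (k : Type u) [Field k] {X : Scheme.{u}} [X.Over (Spec (CommRingCat.of k))]
  [IsProper (X ↘ Spec (CommRingCat.of k))]

/-- Bounded degrees on one-dimensional modules. -/
def CurveBdd (P : X.Modules → Prop) : Prop :=
  ∀ F : X.Modules, Coh.IsCoh F → topologicalKrullDim (CohB1.support F) ≤ (1 : ℕ) →
    ∃ b : ℕ, ∀ L, P L → (delta k [L] F).natAbs ≤ b

/-- Bounded degrees on curves, self-intersections bounded below on surfaces. -/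
structure Fam (P : X.Modules → Prop) : Prop where
  inv : ∀ L, P L → PicF.IsInvertible L
  symm : ∀ L L', P L → ClSub.IsInverseOf L L' → P L'
  curve : CurveBdd k P
  surf : ∀ ξ : X, topologicalKrullDim (closure ({ξ} : Set X)) = (2 : ℕ) →
    ∃ b : ℕ, ∀ L, P L → -(b : ℤ) ≤ delta k [L, L] (Cyc.closureStructureSheaf ξ)

variable {k} {P : X.Modules → Prop}

/-- Bounded degrees with respect to any fixed list of invertible modules. -/
theorem delta_bdd (hinv : ∀ L, P L → PicF.IsInvertible L) (hcb : CurveBdd k P) : ∀ (l : List X.Modules), (∀ M ∈ l, PicF.IsInvertible M) →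
    ∀ F : X.Modules, Coh.IsCoh F → topologicalKrullDim (CohB1.support F) ≤ (l.length + 1 : ℕ) →
      ∃ b : ℕ, ∀ L, P L → (delta k (L :: l) F).natAbs ≤ b := by
  intro l
  induction l with
  | nil => exact fun _ F hF hd => hcb F hF hd
  | cons B l ih =>
    intro hl F hF hdim
    classical
    have hN : IsNoetherian X := isNoetherian k
    have hB : PicF.IsInvertible B := hl B (List.mem_cons_self ..)
    have hl' : ∀ M ∈ l, PicF.IsInvertible M := fun M h => hl M (List.mem_cons_of_mem _ h)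
    have hcl := CohTwo.isClosed_support F hF
    have hdim' : topologicalKrullDim (CohB1.support F) ≤ (l.length + 2 : ℕ) := hdim
    let T := {x | x ∈ CohB1.support F ∧ topologicalKrullDim (closure ({x} : Set X)) = (l.length + 2 : ℕ)}
    have hT : T.Finite := (DivisorLength.finite_maximal_points hcl).subset fun x hx =>
      ⟨hx.1, fun w hw hwx => (eq_of_dim_closure hwx.mem_closure
        ((LocCohTransform.topologicalKrullDim_mono (closure_minimal (Set.singleton_subset_iff.2 hw) hcl)).trans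
          hdim') hx.2.ge).symm⟩
    have hξ : ∀ ξ : X, ξ ∈ hT.toFinset → ∃ b : ℕ, ∀ L, P L →
        (delta k (L :: B :: l) (Cyc.closureStructureSheaf ξ)).natAbs ≤ b := fun ξ hξ => by
      obtain ⟨Q₁, Q₂, c₁, c₂, d₁, -, d₂, -, e⟩ := exists_delta_eq_sub k hB
        (Y := ⟨closure {ξ}, isClosed_closure⟩) (ξ := ξ) rfl (n := l.length + 2)
        (hT.mem_toFinset.1 hξ).2.le (KTheory.Devissage.isCoh_closureStructureSheaf ξ)
        (KTheory.Devissage.support_closureStructureSheaf_subset ξ)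
      obtain ⟨b₁, hb₁⟩ := ih hl' Q₁ c₁ (lt_natCast_succ_iff.1 d₁)
      obtain ⟨b₂, hb₂⟩ := ih hl' Q₂ c₂ (lt_natCast_succ_iff.1 d₂)
      refine ⟨b₁ + b₂, fun L hL => ?_⟩
      rw [delta_perm k (List.Perm.swap B L l), e (L :: l) (by simpa using ⟨hinv L hL, hl'⟩)]
      have := hb₁ L hL
      have := hb₂ L hL
      omega
    choose b hb using hξ
    refine ⟨∑ ξ ∈ hT.toFinset.attach,
      (Module.length (X.presheaf.stalk ξ.1) (F.presheaf.stalk ξ.1)).toNat * b ξ.1 ξ.2, fun L hL => ?_⟩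
    rw [delta_eq_sum_length k (by simpa using ⟨hinv L hL, hB, hl'⟩) hF (by simpa using hdim)
      hT.toFinset fun x => hT.mem_toFinset, ← Finset.sum_attach]
    refine le_trans (Int.natAbs_sum_le _ _) (Finset.sum_le_sum fun ξ _ => ?_)
    rw [Int.natAbs_mul, Int.natAbs_natCast]
    exact Nat.mul_le_mul_left _ (hb ξ.1 ξ.2 L hL)

/-- The family pulled back to a closed subscheme. -/
def pull {Z : Scheme.{u}} (i : Z ⟶ X) (P : X.Modules → Prop) (M : Z.Modules) : Prop :=
  ∃ L, P L ∧ Nonempty ((Scheme.Modules.pullback i).obj L ≅ M)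

variable (k) in
/-- Boundedly large `H^q` of the twists. -/
def Bd (P : X.Modules → Prop) (q : ℕ) (F : X.Modules) : Prop :=
  ∃ C : ℕ, ∀ L, P L → Module.finrank k (Coh.HH X (CohB1.tensorMod F L) q) ≤ C

omit [IsProper (X ↘ Spec (CommRingCat.of k))] in
theorem finrank_congr {M N : X.Modules} (e : M ≅ N) (q : ℕ) :
    Module.finrank k (Coh.HH X M q) = Module.finrank k (Coh.HH X N q) :=
  (EulerDeg.hEquiv k e q).finrank_eq

theorem finrank_le_of_exact {A B C : Type*} [AddCommGroup A] [Module k A] [AddCommGroup B] [Module k B]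
    [AddCommGroup C] [Module k C] [Module.Finite k A] [Module.Finite k B] [Module.Finite k C]
    (f : A →ₗ[k] B) (g : B →ₗ[k] C) (h : Function.Exact f g) :
    Module.finrank k B ≤ Module.finrank k A + Module.finrank k C := by
  rw [← LinearMap.finrank_range_add_finrank_ker g, h.linearMap_ker_eq]
  have := LinearMap.finrank_range_le f
  have := Submodule.finrank_le (LinearMap.range g)
  omega

section

variable {S : ShortComplex X.Modules} (hS : S.ShortExact) (h₁ : Coh.IsCoh S.X₁) (h₂ : Coh.IsCoh S.X₂)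
  (h₃ : Coh.IsCoh S.X₃)
include hS h₁ h₂ h₃

theorem finrank_mid (q : ℕ) : Module.finrank k (Coh.HH X S.X₂ q) ≤
    Module.finrank k (Coh.HH X S.X₁ q) + Module.finrank k (Coh.HH X S.X₃ q) := by
  have := (finCoh k h₁).finite q
  have := (finCoh k h₂).finite q
  have := (finCoh k h₃).finite q
  exact finrank_le_of_exact _ _ (EulerDeg.exact_mid k hS q)

theorem finrank_left (q : ℕ) : Module.finrank k (Coh.HH X S.X₁ (q + 1)) ≤
    Module.finrank k (Coh.HH X S.X₃ q) + Module.finrank k (Coh.HH X S.X₂ (q + 1)) := by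
  have := (finCoh k h₁).finite (q + 1)
  have := (finCoh k h₂).finite (q + 1)
  have := (finCoh k h₃).finite q
  exact finrank_le_of_exact _ _ (EulerDeg.exact_left k hS q)

theorem finrank_left_zero : Module.finrank k (Coh.HH X S.X₁ 0) ≤ Module.finrank k (Coh.HH X S.X₂ 0) :=
  have := (finCoh k h₂).finite 0
  LinearMap.finrank_le_finrank_of_injective (EulerDeg.injective_zero k hS)

theorem finrank_right (q : ℕ) : Module.finrank k (Coh.HH X S.X₃ q) ≤
    Module.finrank k (Coh.HH X S.X₂ q) + Module.finrank k (Coh.HH X S.X₁ (q + 1)) := by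
  have := (finCoh k h₁).finite (q + 1)
  have := (finCoh k h₂).finite q
  have := (finCoh k h₃).finite q
  exact finrank_le_of_exact _ _ (EulerDeg.exact_right k hS q)

variable (hP : ∀ L, P L → PicF.IsInvertible L)
include hP

theorem bd_mid {q : ℕ} (b₁ : Bd k P q S.X₁) (b₃ : Bd k P q S.X₃) : Bd k P q S.X₂ := by
  obtain ⟨C, hC⟩ := b₁
  obtain ⟨D, hD⟩ := b₃
  refine ⟨C + D, fun L hL => ?_⟩
  have hc : ∀ {F : X.Modules}, Coh.IsCoh F → Coh.IsCoh (CohB1.tensorMod F L) :=
    fun hF => RefRank.isCoh_tensorMod hF (isCoh_of_isInvertible (hP L hL))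
  exact (finrank_mid (shortExact_tensorRightMod (hP L hL) hS) (hc h₁) (hc h₂) (hc h₃) q).trans
    (Nat.add_le_add (hC L hL) (hD L hL))

theorem bd_left {q : ℕ} (b₂ : Bd k P (q + 1) S.X₂) (b₃ : Bd k P q S.X₃) : Bd k P (q + 1) S.X₁ := by
  obtain ⟨C, hC⟩ := b₂
  obtain ⟨D, hD⟩ := b₃
  refine ⟨D + C, fun L hL => ?_⟩
  have hc : ∀ {F : X.Modules}, Coh.IsCoh F → Coh.IsCoh (CohB1.tensorMod F L) :=
    fun hF => RefRank.isCoh_tensorMod hF (isCoh_of_isInvertible (hP L hL))
  exact (finrank_left (shortExact_tensorRightMod (hP L hL) hS) (hc h₁) (hc h₂) (hc h₃) q).trans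
    (Nat.add_le_add (hD L hL) (hC L hL))

theorem bd_left_zero (b₂ : Bd k P 0 S.X₂) : Bd k P 0 S.X₁ := by
  obtain ⟨C, hC⟩ := b₂
  refine ⟨C, fun L hL => ?_⟩
  have hc : ∀ {F : X.Modules}, Coh.IsCoh F → Coh.IsCoh (CohB1.tensorMod F L) :=
    fun hF => RefRank.isCoh_tensorMod hF (isCoh_of_isInvertible (hP L hL))
  exact (finrank_left_zero (shortExact_tensorRightMod (hP L hL) hS) (hc h₁) (hc h₂) (hc h₃)).trans
    (hC L hL)

theorem bd_right {q : ℕ} (b₂ : Bd k P q S.X₂) (b₁ : Bd k P (q + 1) S.X₁) : Bd k P q S.X₃ := by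
  obtain ⟨C, hC⟩ := b₂
  obtain ⟨D, hD⟩ := b₁
  refine ⟨C + D, fun L hL => ?_⟩
  have hc : ∀ {F : X.Modules}, Coh.IsCoh F → Coh.IsCoh (CohB1.tensorMod F L) :=
    fun hF => RefRank.isCoh_tensorMod hF (isCoh_of_isInvertible (hP L hL))
  exact (finrank_right (shortExact_tensorRightMod (hP L hL) hS) (hc h₁) (hc h₂) (hc h₃) q).trans
    (Nat.add_le_add (hC L hL) (hD L hL))

end

theorem bd_iso {F G : X.Modules} (e : F ≅ G) {q : ℕ} (h : Bd k P q F) : Bd k P q G := by
  obtain ⟨C, hC⟩ := h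
  exact ⟨C, fun L hL => (finrank_congr (tensor_congr ⟨e⟩ ⟨Iso.refl L⟩).some q).symm.trans_le (hC L hL)⟩

theorem bd_isZero {F : X.Modules} (h : IsZero F) (q : ℕ) : Bd k P q F := by
  refine ⟨0, fun L _ => ?_⟩
  have : Subsingleton (Coh.HH X (CohB1.tensorMod F L) q) :=
    Variety2.Reg.subsingleton_of_isZero' k ((DCoh.tensorRightMod L).map_isZero h) q
  rw [Module.finrank_zero_of_subsingleton]

theorem bd_retract {A B : X.Modules} (s : A ⟶ B) (r : B ⟶ A) (h : s ≫ r = 𝟙 A) (hB : Coh.IsCoh B)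
    (hP : ∀ L, P L → PicF.IsInvertible L) {q : ℕ} (b : Bd k P q B) : Bd k P q A := by
  obtain ⟨C, hC⟩ := b
  refine ⟨C, fun L hL => le_trans ?_ (hC L hL)⟩
  have := (finCoh k (RefRank.isCoh_tensorMod hB (isCoh_of_isInvertible (hP L hL)))).finite q
  refine LinearMap.finrank_le_finrank_of_injective
    (f := EulerDeg.hMap k ((DCoh.tensorRightMod L).map s) q) ?_
  refine Function.LeftInverse.injective (g := EulerDeg.hMap k ((DCoh.tensorRightMod L).map r) q) fun x => ?_
  have e : (DCoh.tensorRightMod L).map s ≫ (DCoh.tensorRightMod L).map r = 𝟙 _ := by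
    rw [← Functor.map_comp, h, CategoryTheory.Functor.map_id]
  have := congrArg (fun g => EulerDeg.hMap k g q x) e
  simp only [EulerDeg.hMap_comp, EulerDeg.hMap_id, LinearMap.comp_apply] at this
  exact this

omit [IsProper (X ↘ Spec (CommRingCat.of k))] in
/-- Cohomology and direct images along closed immersions. -/
theorem finrank_push {Z : Scheme.{u}} [Z.Over (Spec (CommRingCat.of k))] (i : Z ⟶ X) [IsClosedImmersion i]
    (hi : i ≫ (X ↘ Spec (CommRingCat.of k)) = Z ↘ Spec (CommRingCat.of k)) {M : X.Modules}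
    (hM : PicF.IsInvertible M) (G : Z.Modules) (q : ℕ) :
    Module.finrank k (Coh.HH X (CohB1.tensorMod ((Coh.push i).obj G) M) q) =
      Module.finrank k (Coh.HH Z (CohB1.tensorMod G ((Scheme.Modules.pullback i).obj M)) q) := by
  obtain ⟨θ, -⟩ := PnCoh.exists_projectionFormula i G hM
  refine (EulerDeg.hEquiv k θ q).finrank_eq.trans ?_
  rename_i instX instZ _
  cases instZ with
  | ofHom g =>
  obtain rfl : i ≫ (X ↘ Spec (CommRingCat.of k)) = g := hi.trans rfl
  obtain ⟨f⟩ := CohC3.nonempty_linearEquiv_push_closed i (X ↘ Spec (CommRingCat.of k)) q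
    (CohB1.tensorMod G ((Scheme.Modules.pullback i).obj M))
  exact f.finrank_eq

variable {Z : Scheme.{u}} [Z.Over (Spec (CommRingCat.of k))] [IsProper (Z ↘ Spec (CommRingCat.of k))]
  (i : Z ⟶ X) [IsClosedImmersion i]

omit [IsProper (Z ↘ Spec (CommRingCat.of k))] in
theorem bd_push_iff (hi : i ≫ (X ↘ Spec (CommRingCat.of k)) = Z ↘ Spec (CommRingCat.of k))
    (hP : ∀ L, P L → PicF.IsInvertible L) (q : ℕ) (G : Z.Modules) :
    Bd k P q ((Coh.push i).obj G) ↔ Bd k (pull i P) q G := by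
  refine ⟨fun ⟨C, hC⟩ => ⟨C, ?_⟩, fun ⟨C, hC⟩ => ⟨C, fun L hL => ?_⟩⟩
  · rintro M ⟨L, hL, ⟨e⟩⟩
    rw [← finrank_congr (tensor_congr ⟨Iso.refl G⟩ ⟨e⟩).some q, ← finrank_push i hi (hP L hL) G q]
    exact hC L hL
  · rw [finrank_push i hi (hP L hL) G q]
    exact hC _ ⟨L, hL, ⟨Iso.refl _⟩⟩

/-- Degrees on curves stay bounded after pulling back. -/
theorem curve_pull (hi : i ≫ (X ↘ Spec (CommRingCat.of k)) = Z ↘ Spec (CommRingCat.of k))
    (hinv : ∀ L, P L → PicF.IsInvertible L) (hcb : CurveBdd k P) : CurveBdd k (pull i P) := by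
  intro G hG hd
  have hN : IsNoetherian X := isNoetherian k
  have hZ : IsNoetherian Z := isNoetherian k
  have hsub : CohB1.support ((Coh.push i).obj G) ⊆ i '' CohB1.support G := fun x hx => by
    obtain ⟨z, rfl⟩ := CohTwo.support_push_subset i G hx
    exact ⟨z, fun h' => hx (@Equiv.subsingleton _ _
      (Equiv.ofBijective _ (CohTwo.bijective_pushStalk i G z)) h'), rfl⟩
  obtain ⟨b, hb⟩ := hcb _ (CohTwo.isCoh_push i hG)
    ((LocCohTransform.topologicalKrullDim_mono hsub).trans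
      ((i.isClosedEmbedding.isEmbedding.homeomorphImage
        (CohB1.support G)).isHomeomorph.topologicalKrullDim_eq.symm.trans_le hd))
  refine ⟨b, ?_⟩
  rintro M ⟨L, hL, ⟨e⟩⟩
  have h := hb L hL
  rw [delta_push k i hi [L] (by simpa using hinv L hL) G] at h
  simpa [delta_cons, delta_nil, EulerDeg.euler_congr k (tensor_congr ⟨e⟩ ⟨Iso.refl G⟩).some] using h

omit [IsProper (Z ↘ Spec (CommRingCat.of k))] [IsClosedImmersion i] in
theorem inv_pull (hinv : ∀ L, P L → PicF.IsInvertible L) (M : Z.Modules) (h : pull i P M) :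
    PicF.IsInvertible M := by
  obtain ⟨L, hL, ⟨e⟩⟩ := h
  exact PicAux.isInvertible_of_iso (PicAux.isInvertible_pullback i (hinv L hL)) e

omit [IsProper (Z ↘ Spec (CommRingCat.of k))] [IsClosedImmersion i] in
theorem symm_pull (hinv : ∀ L, P L → PicF.IsInvertible L)
    (hsymm : ∀ L L', P L → ClSub.IsInverseOf L L' → P L') (M M' : Z.Modules) (h : pull i P M)
    (hMM' : ClSub.IsInverseOf M M') : pull i P M' := by
  obtain ⟨L, hL, ⟨e⟩⟩ := h
  obtain ⟨L', -, hLL'⟩ := exists_isInverseOf (hinv L hL)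
  obtain ⟨u⟩ := PicAux.isInverseOf_pullback i hLL'
  exact ⟨L', hsymm L L' hL hLL',
    isInverseOf_unique ⟨(tensor_congr ⟨e.symm⟩ ⟨Iso.refl _⟩).some ≪≫ u⟩ hMM'⟩

end Groth.Misc13.Kleiman
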