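import Groth.Agent.Misc13.Kleiman.Reg
import Groth.Agent.Pic13Aux.RegularBoundedLe

/-!
# Bounded intersection numbers give bounded families
-/

set_option autoImplicit false
set_option linter.style.haveILetI false

universe u

open CategoryTheory CategoryTheory.Limits AlgebraicGeometry TopologicalSpace

namespace Groth.Misc13.Kleiman

open Groth.Inter Groth.PicAux

variable {k : Type u} [Field k] {X : Scheme.{u}} [X.Over (Spec (CommRingCat.of k))]
  [IsProper (X ↘ Spec (CommRingCat.of k))] {P : X.Modules → Prop}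

/-- The family together with its inverses. -/
def symmFam (P : X.Modules → Prop) (M : X.Modules) : Prop :=
  ∃ L, P L ∧ (Nonempty (L ≅ M) ∨ ClSub.IsInverseOf L M)

/-- Degrees bounded on each curve are bounded on one-dimensional modules. -/
theorem curveBdd_of_curves (hinv : ∀ L, P L → PicF.IsInvertible L)
    (h : ∀ z : X, topologicalKrullDim (closure ({z} : Set X)) = (1 : ℕ) →
      ∃ b : ℕ, ∀ L, P L → (delta k [L] (Cyc.closureStructureSheaf z)).natAbs ≤ b) : CurveBdd k P := by
  intro F hF hdim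
  classical
  have hN : IsNoetherian X := isNoetherian k
  have hcl := CohTwo.isClosed_support F hF
  let T := {x | x ∈ CohB1.support F ∧ topologicalKrullDim (closure ({x} : Set X)) = (1 : ℕ)}
  have hT : T.Finite := (DivisorLength.finite_maximal_points hcl).subset fun x hx =>
    ⟨hx.1, fun w hw hwx => (eq_of_dim_closure hwx.mem_closure
      ((LocCohTransform.topologicalKrullDim_mono (closure_minimal (Set.singleton_subset_iff.2 hw) hcl)).trans
        hdim) hx.2.ge).symm⟩
  have h' : ∀ z : X, z ∈ hT.toFinset → ∃ b : ℕ, ∀ L, P L →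
      (delta k [L] (Cyc.closureStructureSheaf z)).natAbs ≤ b := fun z hz => h z (hT.mem_toFinset.1 hz).2
  choose b hb using h'
  refine ⟨∑ ξ ∈ hT.toFinset.attach,
    (Module.length (X.presheaf.stalk ξ.1) (F.presheaf.stalk ξ.1)).toNat * b ξ.1 ξ.2, fun L hL => ?_⟩
  rw [delta_eq_sum_length k (by simpa using hinv L hL) hF (by simpa using hdim)
    hT.toFinset fun x => hT.mem_toFinset, ← Finset.sum_attach]
  refine le_trans (Int.natAbs_sum_le _ _) (Finset.sum_le_sum fun ξ _ => ?_)
  rw [Int.natAbs_mul, Int.natAbs_natCast]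
  exact Nat.mul_le_mul_left _ (hb ξ.1 ξ.2 L hL)

/-- The symmetrised family satisfies the hypotheses of the regularity theorem. -/
theorem fam_symmFam (hinv : ∀ L, P L → PicF.IsInvertible L)
    (hcurve : ∀ z : X, topologicalKrullDim (closure ({z} : Set X)) = (1 : ℕ) →
      ∃ b : ℕ, ∀ L, P L → (delta k [L] (Cyc.closureStructureSheaf z)).natAbs ≤ b)
    (hsurf : ∀ z : X, topologicalKrullDim (closure ({z} : Set X)) = (2 : ℕ) →
      ∃ b : ℕ, ∀ L, P L → -(b : ℤ) ≤ delta k [L, L] (Cyc.closureStructureSheaf z)) :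
    Fam k (symmFam P) := by
  have hN : IsNoetherian X := isNoetherian k
  have hiv : ∀ M, symmFam P M → PicF.IsInvertible M := by
    rintro M ⟨L, hL, ⟨⟨e⟩⟩ | h⟩
    exacts [isInvertible_of_iso (hinv L hL) e, isInvertible_of_isInverseOf (hinv L hL) h]
  refine ⟨hiv, ?_, curveBdd_of_curves hiv fun z hz => ?_, fun z hz => ?_⟩
  · rintro M M' ⟨L, hL, ⟨⟨e⟩⟩ | h⟩ hMM'
    · exact ⟨L, hL, Or.inr ⟨(tensor_congr ⟨e⟩ ⟨Iso.refl _⟩).some ≪≫ hMM'.some⟩⟩
    · exact ⟨L, hL, Or.inl ⟨(isInverseOf_unique hMM' (isInverseOf_symm h)).some.symm⟩⟩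
  · obtain ⟨b, hb⟩ := hcurve z hz
    have hc := KTheory.Devissage.isCoh_closureStructureSheaf (X := X) z
    have hd : topologicalKrullDim (CohB1.support (Cyc.closureStructureSheaf z)) ≤ ((1 : ℕ) : WithBot ℕ∞) :=
      (LocCohTransform.topologicalKrullDim_mono
        (KTheory.Devissage.support_closureStructureSheaf_subset z)).trans hz.le
    refine ⟨b, ?_⟩
    rintro M ⟨L, hL, ⟨⟨e⟩⟩ | h⟩
    · have := hb L hL
      simpa [delta_cons, delta_nil, EulerDeg.euler_congr k (tensor_congr ⟨e⟩
        ⟨Iso.refl (Cyc.closureStructureSheaf z)⟩).some] using this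
    · rw [delta_inverse_cons k (isInvertible_of_isInverseOf (hinv L hL) h) (isInverseOf_symm h) (l := [])
        (by simp) hc hd, Int.natAbs_neg]
      exact hb L hL
  · obtain ⟨b, hb⟩ := hsurf z hz
    refine ⟨b, ?_⟩
    rintro M ⟨L, hL, ⟨⟨e⟩⟩ | h⟩
    · have h2 := hb L hL
      simp only [delta_cons, delta_nil] at h2 ⊢
      rwa [EulerDeg.euler_congr k (tensor_congr ⟨e⟩ ⟨Iso.refl (Cyc.closureStructureSheaf z)⟩).some,
        EulerDeg.euler_congr k (tensor_congr ⟨e⟩ (tensor_congr ⟨e⟩
          ⟨Iso.refl (Cyc.closureStructureSheaf z)⟩)).some] at h2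
    · have hc := KTheory.Devissage.isCoh_closureStructureSheaf (X := X) z
      have hd : topologicalKrullDim (CohB1.support (Cyc.closureStructureSheaf z)) ≤ ((2 : ℕ) : WithBot ℕ∞) :=
        (LocCohTransform.topologicalKrullDim_mono
          (KTheory.Devissage.support_closureStructureSheaf_subset z)).trans hz.le
      have hLi := hinv L hL
      have hMi := isInvertible_of_isInverseOf hLi h
      rw [delta_inverse_cons k hMi (isInverseOf_symm h) (l := [M]) (by simpa using hMi) hc hd,
        delta_perm k (List.Perm.swap M L []),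
        delta_inverse_cons k hMi (isInverseOf_symm h) (l := [L]) (by simpa using hLi) hc hd, neg_neg]
      exact hb L hL

/-- Bounded degrees on curves and self-intersections bounded below on surfaces give boundedness. -/
theorem isBounded_of_bounds {A : X.Modules} (hA : CohB1.IsAmple A)
    (hinv : ∀ L, P L → PicF.IsInvertible L)
    (hcurve : ∀ z : X, topologicalKrullDim (closure ({z} : Set X)) = (1 : ℕ) →
      ∃ b : ℕ, ∀ L, P L → (delta k [L] (Cyc.closureStructureSheaf z)).natAbs ≤ b)
    (hsurf : ∀ z : X, topologicalKrullDim (closure ({z} : Set X)) = (2 : ℕ) →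
      ∃ b : ℕ, ∀ L, P L → -(b : ℤ) ≤ delta k [L, L] (Cyc.closureStructureSheaf z)) :
    Pic13.IsBounded k X P := by
  have hN : IsNoetherian X := isNoetherian k
  obtain ⟨n, p, i, -, hci, hi, -⟩ :=
    PnCoh.exists_closedImmersion_of_isAmple (X ↘ Spec (CommRingCat.of k)) hA
  haveI := hci
  have hP := fam_symmFam hinv hcurve hsurf
  have hO : Coh.IsCoh (Coh.structureModule X) :=
    isCoh_of_isInvertible (EulerDeg.isInvertible_structureModule X)
  obtain ⟨hb, m, hm⟩ := good i hi hA hP hO
  obtain ⟨C, hC⟩ := hb 0 m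
  obtain ⟨T, q, h₁, h₂, F, hF, hQ⟩ := Pic13Aux.isBounded_mRegular_le k n X i hi m C
  refine ⟨T, q, h₁, h₂, F, hF, fun L hL => hQ L ?_⟩
  have hLP : symmFam P L := ⟨L, hL, Or.inl ⟨Iso.refl L⟩⟩
  have hLc := isCoh_of_isInvertible (hinv L hL)
  have hreg : Pic13.IsMRegular k i L m := NumTriv.mReg_iso k i (tensor_one L).some (hm L hLP)
  refine ⟨hLc, hreg, ?_⟩
  haveI := hLc.1
  haveI : (Variety2.Reg.pF i L).IsQuasicoherent := (Variety2.Reg.isCoh_pF i L hLc).1
  have h0 : Curv2.euler k X (Pic13.twistOn k i L m) =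
      (Module.finrank k (Coh.HH X (Pic13.twistOn k i L m) 0) : ℤ) := by
    rw [EulerDeg.euler_eq_sum (k := k) (N := 1) fun q hq =>
      (Variety2.Reg.subsingleton_twistOn_iff i L m q).2
        (Variety2.Reg.vanish_of_mReg _ (Variety2.Reg.mReg_pF i L hreg) hq (by omega))]
    simp
  have h := hC L hLP
  rw [finrank_congr ((NumTriv.twistOn_tensor k i (Coh.structureModule X) L m).some.symm ≪≫
    (NumTriv.twistOn_congr k i (tensor_one L).some m).some) 0] at h
  omega

end Groth.Misc13.Kleiman
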