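import Groth.Agent.Misc13.Kleiman.Basic
import Groth.Agent.Duality.PnDualizing
import Groth.Agent.Duality.ClosedDual
import Groth.Agent.Duality.TraceBij
import Groth.Agent.Lichtenbaum.Nonvanish
import Groth.Agent.HilbStab.TFPure
import Groth.Agent.HilbStab.RankOne
import Groth.Agent.Variety2.ProjDim

/-!
# A dualizing sheaf kills the first cohomology of very negative twists

On an integral closed subscheme of projective space of dimension `e` there are a coherent module `ω`
and a monomorphism `O ⟶ ω(a)` such that `H¹(ω ⊗ M') = 0` whenever `M ⊗ M' ≅ O` and `H^{e-1}(M) = 0`.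
-/

set_option autoImplicit false
set_option backward.isDefEq.respectTransparency false
set_option linter.style.haveILetI false

universe u

open CategoryTheory CategoryTheory.Limits AlgebraicGeometry TopologicalSpace
open CategoryTheory.Abelian

namespace Groth.Misc13.Kleiman

open Groth.Duality Groth.PicAux

variable {k : Type u} [Field k] {N : ℕ} {X : Scheme.{u}} [X.Over (Spec (CommRingCat.of k))]
  [IsProper (X ↘ Spec (CommRingCat.of k))] [IsIntegral X]
  (ι : X ⟶ CohB1.ProjSpace N k) [IsClosedImmersion ι]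

/-- See the module docstring. -/
theorem exists_dual (hι : ι ≫ CohB1.ProjSpace.toSpec N k = X ↘ Spec (CommRingCat.of k)) {e : ℕ}
    (he : topologicalKrullDim ↥X = (e : WithBot ℕ∞)) :
    ∃ (ω : X.Modules) (a : ℤ) (f : Coh.structureModule X ⟶ CohB1.tensorMod ω (Closed.tw ι a)),
      Coh.IsCoh ω ∧ Mono f ∧ ∀ M M' : X.Modules, PicF.IsInvertible M → ClSub.IsInverseOf M M' →
        ∀ j : ℕ, j + 1 = e → Subsingleton (Coh.HH X M j) →
          Subsingleton (Coh.HH X (CohB1.tensorMod ω M') 1) := by
  classical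
  have hXN := Closed.isNoetherian ι
  haveI := PnCoh.isLocallyNoetherian_projSpace N k
  haveI : ModSite.HasSheafHom (O := (CohB1.ProjSpace N k).sheaf)
      ((Scheme.Modules.pushforward ι).obj (Coh.structureModule X)) := Groth.SitesTopoi.ModH.hasSheafHom _
  haveI : HasInjectiveResolutions (ModSite.Mod (CohB1.ProjSpace N k).sheaf) :=
    inferInstanceAs (HasInjectiveResolutions (CohB1.ProjSpace N k).Modules)
  haveI : HasExt.{u} X.Modules := hasExt_of_enoughInjectives _
  have heN : e ≤ N := by
    have h := ι.isClosedEmbedding.topologicalKrullDim_le.trans (Variety2.PSpace.dim_projSpace (n := N) (k := k)).le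
    rw [he] at h
    exact_mod_cast h
  obtain ⟨ω, hω⟩ := Pn.exists_extSh_iso ι (N - e)
  obtain ⟨t, ht⟩ := Pn.exists_dualizing ι hι (show e + (N - e) = N by omega) he.le ω hω
  have hωc : Coh.IsCoh ω := Pn.isCoh_of_extSh_iso ι ω hω
  have ht' : DualPair.IsDualizing t := ht
  -- a twist with nonzero top cohomology
  obtain ⟨F, hF, hFne⟩ := Lichtenbaum.exists_coh_nontrivial_top (X ↘ Spec (CommRingCat.of k)) (𝟙 X) e he
    (by rw [Category.id_comp]; infer_instance)
  obtain ⟨r, c, p, -, hp⟩ := PnCoh.exists_epi_twists (𝒜 := CohB1.polyGrading N k)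
    ((Scheme.Modules.pushforward ι).obj F) (CohTwo.isCoh_push ι hF) 0
  obtain ⟨j, hj⟩ : ∃ j, ¬ Subsingleton (Coh.HH X (Closed.tw ι (c j)) e) := by
    by_contra hall
    simp only [not_exists, not_not] at hall
    let O' := fun j => Twist.twistProjSpace N k (c j)
    let adj := Scheme.Modules.pullbackPushforwardAdjunction ι
    let q : (Scheme.Modules.pullback ι).obj (∐ O') ⟶ F :=
      (Scheme.Modules.pullback ι).map p ≫ adj.counit.app F
    let M := fun j => Closed.tw ι (c j)
    let q' : ∐ M ⟶ F := sigmaComparison (Scheme.Modules.pullback ι) O' ≫ q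
    haveI : PreservesColimitsOfSize.{0, 0} (Scheme.Modules.pullback ι) :=
      adj.leftAdjoint_preservesColimits
    haveI : Epi p := hp
    haveI : Epi ((Scheme.Modules.pullback ι).map p) := (Scheme.Modules.pullback ι).map_epi p
    haveI : IsIso (adj.counit.app F) := by
      have : IsIso (Scheme.Modules.pullbackPushforwardAdjunction ι).counit := Misc7.ClosedImm.isIso_counit ι
      infer_instance
    haveI : Epi q := epi_comp _ _
    haveI hq' : Epi q' := epi_comp (sigmaComparison (Scheme.Modules.pullback ι) O') q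
    have hM : Coh.IsCoh (∐ M) := PnCoh.isCoh_sigma _ fun j => Closed.isCoh_tw ι (c j)
    haveI := hF.1
    let S : ShortComplex X.Modules := ShortComplex.mk (kernel.ι q') q' (kernel.condition q')
    have hS : S.ShortExact :=
      { exact := ShortComplex.exact_of_f_is_kernel S (kernelIsKernel q')
        mono_f := inferInstanceAs (Mono (kernel.ι q'))
        epi_g := hq' }
    refine hFne (subsingleton_of_forall_eq 0 fun y => ?_)
    obtain ⟨x, rfl⟩ := (EulerDeg.exact_right k hS e y).1
      (@Subsingleton.elim _ (Closed.subsingleton_HH_of_lt ι he.le S.X₁ e.lt_succ_self) _ _)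
    have key : ∀ j, EulerDeg.hMap k (PnCoh.sigmaProj M j ≫ Sigma.ι M j) e x = 0 := fun j => by
      rw [EulerDeg.hMap_comp, LinearMap.comp_apply,
        @Subsingleton.elim _ (hall j) (EulerDeg.hMap k (PnCoh.sigmaProj M j) e x) 0]
      exact map_zero _
    have h := hMap_sum (A := k) Finset.univ (fun j => PnCoh.sigmaProj M j ≫ Sigma.ι M j) e
    rw [PnCoh.sigmaProj_total, EulerDeg.hMap_id] at h
    have hx : x = 0 := by
      refine (LinearMap.congr_fun h x).trans ?_
      rw [LinearMap.sum_apply]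
      exact Finset.sum_eq_zero fun j _ => key j
    rw [hx, map_zero]
  -- a monomorphism into `ω`
  let M₀ := Closed.tw ι (c j)
  have hM₀ : PicF.IsInvertible M₀ := isInvertible_pullback ι (PnCoh.isInvertible_twist N k _)
  have hM₀c : Coh.IsCoh M₀ := Closed.isCoh_tw ι _
  haveI := hM₀c.1
  obtain ⟨ψ, hψ⟩ : ∃ ψ : Coh.HH X M₀ e →ₗ[k] k, ψ ≠ 0 := by
    by_contra hall
    simp only [ne_eq, not_exists, not_not] at hall
    exact hj (subsingleton_of_forall_eq 0 fun x =>
      (Module.forall_dual_apply_eq_zero_iff k x).1 fun ψ => by rw [hall ψ]; rfl)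
  obtain ⟨φ, hφ, -⟩ := ht M₀ hM₀c ψ
  have hφ0 : φ ≠ 0 := fun h0 => hψ (LinearMap.ext fun x => by
    rw [hφ x, h0]
    change t (EulerDeg.hMap k (0 : M₀ ⟶ ω) e x) = 0
    rw [hMap_zero, LinearMap.zero_apply, map_zero])
  have hst : RefHull.stalkMapₗ φ (genericPoint X) ≠ 0 := fun h =>
    hφ0 (TraceBij.eq_zero_of_stalk t ht' hωc he hM₀c φ h)
  have hmono : Mono φ := by
    refine Preadditive.mono_of_kernel_zero ?_
    haveI := hωc.1
    by_contra h0
    replace h0 : ¬ IsZero (kernel φ) := fun h => h0 (h.eq_of_src _ _)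
    have hK : Coh.IsCoh (kernel φ) := QCohMod.isCoh_kernel φ hM₀c
    have hη : genericPoint X ∈ CohB1.support (kernel φ) := by
      rw [HilbStab.support_eq_univ_of_mono (HilbStab.isTorsionFree_of_isInvertible hM₀) (kernel.ι φ) hK h0]
      trivial
    letI : Field (X.presheaf.stalk (genericPoint X)) :=
      (TorsionFree.isField_stalk_generic (TraceBij.closure_genericPoint_mem (X := X))).toField
    obtain ⟨b, hb⟩ := RefRank.exists_isStalkBasis_of_isInvertible hM₀ (genericPoint X)
    have hinj : Function.Injective (RefHull.stalkMapₗ φ (genericPoint X)) := by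
      refine (injective_iff_map_eq_zero _).2 fun v hv => ?_
      by_contra hv0
      refine hst (LinearMap.ext fun w => ?_)
      obtain ⟨c, hc⟩ : ∃ c : X.presheaf.stalk (genericPoint X), w = c • v := by
        obtain ⟨α, rfl⟩ := hb.2 w
        obtain ⟨β, rfl⟩ := hb.2 v
        have hβ : β ≠ 0 := fun h => hv0 (by simp [h])
        refine ⟨α * β⁻¹, ?_⟩
        change α • b = (α * β⁻¹) • (β • b)
        rw [smul_smul, mul_assoc, inv_mul_cancel₀ hβ, mul_one]
      rw [hc, map_smul, hv, smul_zero]
      rfl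
    refine hη ⟨fun u v => ?_⟩
    have hi := (QCohMod.mono_iff_stalk (kernel.ι φ)).1 inferInstance (genericPoint X)
    refine hi (hinj ?_)
    have hz : ∀ w, RefHull.stalkMapₗ φ (genericPoint X) ((QCohMod.stalk (genericPoint X)).map (kernel.ι φ) w) = 0 := by
      intro w
      change ((QCohMod.stalk (genericPoint X)).map (kernel.ι φ) ≫ (QCohMod.stalk (genericPoint X)).map φ) w = 0
      rw [← Functor.map_comp, kernel.condition, Functor.map_zero]
      rfl
    rw [hz u, hz v]
  -- twist it
  have hM₀' := Closed.isInverseOf_tw ι (c j)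
  let f : Coh.structureModule X ⟶ CohB1.tensorMod ω (Closed.tw ι (-c j)) :=
    hM₀'.some.inv ≫ (DCoh.tensorRightMod (Closed.tw ι (-c j))).map φ
  refine ⟨ω, -c j, f, hωc, ?_, fun M M' hM hMM' i hi hv => ?_⟩
  · have h1 : Mono ((DCoh.tensorRightMod (Closed.tw ι (-c j))).map φ) :=
      (shortExact_tensorRightMod (isInvertible_of_isInverseOf hM₀ hM₀')
        (CohTwo.cokerSeq_shortExact φ)).mono_f
    exact @mono_comp _ _ _ _ _ _ inferInstance _ h1
  -- vanishing
  have hMc : Coh.IsCoh M := EulerDeg.isCoh_of_isInvertible hM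
  haveI := SheafHom.hasSheafHom M
  obtain ⟨eE⟩ := SheafHom.nonempty_ext_linearEquiv k M (LocFree.isFinLocFree_of_rank
    (LocFree.isInvertible_iff_ofRank_one.1 hM)) 1 ω
  obtain ⟨θ⟩ := SheafHom.nonempty_sheafHom_inverse_app hMM' ω
  suffices h : Subsingleton (Ext M ω 1) by
    exact (eE ≪≫ₗ EulerDeg.hEquiv k θ 1).toEquiv.symm.subsingleton
  obtain ⟨S, rfl, hS⟩ := Closed.hasAcyclicCovers ι hωc (d := e) (s := 0) (fun q h1 h2 => absurd h1 (by omega)) M hMc
  refine subsingleton_of_forall_eq 0 fun y => ?_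
  obtain ⟨x, rfl⟩ := Ext.contravariant_sequence_exact₃ hS.shortExact ω y (hS.ext_zero 0 _)
    (show 1 + 0 = 1 from rfl)
  have h1 : i + 1 + 0 = e := by omega
  have hd0 : e + 0 = e := add_zero e
  obtain ⟨φ', rfl⟩ := (Ext.mk₀_bijective S.X₁ ω).2 x
  have hinj : Function.Injective (EulerDeg.hMap k S.f (i + 1)) := by
    refine (injective_iff_map_eq_zero _).2 fun z hz => ?_
    obtain ⟨w, rfl⟩ := (EulerDeg.exact_left k hS.shortExact i z).1 hz
    rw [@Subsingleton.elim _ hv w 0, map_zero]
  subst hi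
  obtain ⟨χ, hχ⟩ := LinearMap.dualMap_surjective_of_injective hinj
    (DualPair.dualL t hd0 (Ext.mk₀ φ'))
  obtain ⟨a, rfl⟩ := (DualPair.bijective_zero t ht' hS.cohE hd0).2 χ
  have ha : DualPair.dualL t hd0 ((Ext.mk₀ S.f).comp a (zero_add 0)) = DualPair.dualL t hd0 (Ext.mk₀ φ') :=
    (Yoneda.dual_mk₀_comp t hd0 S.f a).trans hχ
  rw [← (DualPair.bijective_zero t ht' hS.cohK hd0).1 ha]
  exact hS.shortExact.extClass_comp_assoc a

end Groth.Misc13.Kleiman
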