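import Groth.Agent.Misc13.Kleiman.Basic

/-!
# Bounded degrees give boundedly many sections
-/

set_option autoImplicit false
set_option linter.unusedSectionVars false

universe u

open CategoryTheory CategoryTheory.Limits AlgebraicGeometry TopologicalSpace Opposite

namespace Groth.Misc13.Kleiman

open Groth.Inter Groth.PicAux Groth.HilbStab Groth.PropsBasic.Ample

variable {k : Type u} [Field k] {X : Scheme.{u}} [X.Over (Spec (CommRingCat.of k))]
  [IsProper (X ↘ Spec (CommRingCat.of k))] {P : X.Modules → Prop}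

/-- Sufficiently negative twists of modules of bounded degree have no sections. -/
theorem exists_no_section [IsIntegral X] {n : ℕ}
    (hn : topologicalKrullDim X = ((n + 1 : ℕ) : WithBot ℕ∞)) {A B : X.Modules} (hA : CohB1.IsAmple A)
    (hAB : ClSub.IsInverseOf A B) (hinv : ∀ L, P L → PicF.IsInvertible L) (hcb : CurveBdd k P) :
    ∃ b : ℕ, ∀ p, b ≤ p → ∀ L, P L →
      Module.finrank k (Coh.HH X (CohB1.tensorMod L (CohB1.tensorPow B (p + 1))) 0) = 0 := by
  have hN : IsNoetherian X := isNoetherian k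
  have hBi : IsAmpleInv B := ⟨A, hA, hAB⟩
  have hB := hBi.isInvertible
  let O := Coh.structureModule X
  have hO : Coh.IsCoh O := isCoh_of_isInvertible (EulerDeg.isInvertible_structureModule X)
  have hOs : CohB1.support O = Set.univ := Set.eq_univ_of_forall fun x h => by
    have := (RefRank.oneEquiv x).toEquiv.nontrivial_congr.1 inferInstance
    exact not_subsingleton _ h
  have hOd : topologicalKrullDim (CohB1.support O) = ((n + 1 : ℕ) : WithBot ℕ∞) := by
    rw [hOs, IsHomeomorph.topologicalKrullDim_eq _ (Homeomorph.Set.univ X).isHomeomorph, hn]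
  let l := List.replicate n B
  have hl : ∀ M ∈ l, PicF.IsInvertible M := fun M hM => (List.eq_of_mem_replicate hM).symm ▸ hB
  have hlen : l.length = n := List.length_replicate ..
  have hnn : Nonneg k l := fun F hF hd => by
    rcases hd.eq_or_lt with h | h
    · exact (delta_pos k l (fun M hM => (List.eq_of_mem_replicate hM).symm ▸ hBi) F hF h).le
    · exact (delta_eq_zero k l hl F hF h).ge
  obtain ⟨b, hb⟩ := delta_bdd hinv hcb l hl O hO (by rw [hlen]; exact hOd.le)
  have hpos : 0 < delta k (B :: l) O := by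
    refine delta_pos k (B :: l) ?_ O hO (by rw [List.length_cons, hlen]; exact hOd)
    intro M hM
    rcases List.mem_cons.1 hM with rfl | hM
    exacts [hBi, (List.eq_of_mem_replicate hM).symm ▸ hBi]
  refine ⟨b, fun p hp L hL => ?_⟩
  obtain ⟨L', hL', hLL'⟩ := exists_isInverseOf (hinv L hL)
  by_contra hne
  let C := CohB1.tensorMod L (CohB1.tensorPow B (p + 1))
  let C' := CohB1.tensorMod L' (CohB1.tensorPow A (p + 1))
  have hC : PicF.IsInvertible C := isInvertible_tensorMod (hinv L hL) (isInvertible_tensorPow hB _)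
  have hCC' : ClSub.IsInverseOf C C' :=
    PicAux.isInverseOf_tensorMod hLL' (PicAux.isInverseOf_tensorPow (PicAux.isInverseOf_symm hAB) (p + 1))
  have : Nontrivial (Coh.HH X C 0) := Module.nontrivial_of_finrank_pos (R := k) (Nat.pos_of_ne_zero hne)
  have : Nontrivial Γ(C, (⊤ : X.Opens)) := (EulerDeg.h0Equiv k C).toEquiv.nontrivial_congr.1 inferInstance
  obtain ⟨s, hs⟩ := exists_ne (0 : Γ(C, (⊤ : X.Opens)))
  have h := delta_nonneg_of_section k hC hCC' hs hl hnn (by rw [hlen]; exact hn.le)
  have hdim : topologicalKrullDim (CohB1.support O) ≤ ((l.length + 1 : ℕ) : WithBot ℕ∞) := by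
    rw [hlen]; exact hOd.le
  rw [delta_tensor k hL' (isInvertible_tensorPow hA.1 _) hl hO hdim,
    delta_pow_cons k hA.1 hl hO hdim, delta_inverse_cons k hA.1 hAB hl hO hdim,
    delta_inverse_cons k hL' (PicAux.isInverseOf_symm hLL') hl hO hdim] at h
  have := hb L hL
  have : ((p + 1 : ℕ) : ℤ) * 1 ≤ ((p + 1 : ℕ) : ℤ) * delta k (B :: l) O :=
    mul_le_mul_of_nonneg_left hpos (by positivity)
  rw [mul_one] at this
  rw [mul_neg] at h
  omega

/-- Twists by a family of bounded degrees have boundedly many sections. -/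
theorem bd_zero {A : X.Modules} (hA : CohB1.IsAmple A) (hinv : ∀ L, P L → PicF.IsInvertible L)
    (hcb : CurveBdd k P) {F : X.Modules} (hF : Coh.IsCoh F) : Bd k P 0 F := by
  have hN : IsNoetherian X := isNoetherian k
  have hsub : ∀ {A B : X.Modules} (f : A ⟶ B) [Mono f], Coh.IsCoh B → Bd k P 0 B → Bd k P 0 A := by
    intro A B f _ hB b
    obtain ⟨C, hC⟩ := b
    refine ⟨C, fun L hL => le_trans ?_ (hC L hL)⟩
    have : Mono ((DCoh.tensorRightMod L).map f) :=
      (shortExact_tensorRightMod (hinv L hL) (CohTwo.cokerSeq_shortExact f)).mono_f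
    exact @finrank_h0_le_of_mono k _ X _ _ _ _ ((DCoh.tensorRightMod L).map f) this
      (RefRank.isCoh_tensorMod hB (isCoh_of_isInvertible (hinv L hL)))
  refine CohTwo.coh_induction (Bd k P 0) (fun _ _ e h => bd_iso e.some h) (fun _ h => bd_isZero h 0)
    (fun S hS a b c p q => bd_mid hS a b c hinv p q) (CohB1.support F) ?_
    (CohTwo.isClosed_support F hF) F hF subset_rfl
  intro Y ξ hY _ G hG hkill hsmall
  obtain rfl : Y = ⟨closure {ξ}, isClosed_closure⟩ := Closeds.ext hY
  have hne : Nontrivial ↑((Cyc.closureStructureSheaf ξ).presheaf.stalk ξ) :=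
    not_subsingleton_iff_nontrivial.1 (show ξ ∈ CohB1.support (Cyc.closureStructureSheaf ξ) from
      (support_closureStructureSheaf_eq k ξ) ▸ subset_closure rfl)
  have := hG.1
  have := (isCoh_of_isInvertible (EulerDeg.isInvertible_structureModule (IntMult.ptIdeal ξ).subscheme)).1
  refine CohTwo.step_two (Bd k P 0) (fun _ h => bd_isZero h 0)
    (fun S hS a b c => ⟨fun p _ => bd_left_zero hS a b c hinv p, fun p q => bd_mid hS a b c hinv p q⟩)
    (fun F' d hd hF' hP => ?_)
    (Y := closure ({ξ} : Set X)) hsmall (KTheory.Devissage.isCoh_closureStructureSheaf ξ) ?_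
    (KTheory.Devissage.support_closureStructureSheaf_subset ξ) ?_ hG ?_
    (fun a ha m => hkill.stalk_maximalIdeal (Y := ⟨closure {ξ}, isClosed_closure⟩) rfl a ha m)
  · have : Mono (Sigma.ι (fun _ : Fin d => F') ⟨0, hd⟩) := inferInstance
    exact hsub (Sigma.ι (fun _ : Fin d => F') ⟨0, hd⟩) (CohTwo.isCoh_powMod hF' d) hP
  rotate_left
  · exact fun a ha m => (CohTwo.killed_push_subschemeι (IntMult.ptIdeal ξ)
      (Coh.structureModule (IntMult.ptIdeal ξ).subscheme)).stalk_maximalIdeal
        (Y := ⟨closure {ξ}, isClosed_closure⟩) rfl a ha m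
  · exact hkill.support_subset.trans (by
      rw [Scheme.IdealSheafData.coe_support_vanishingIdeal]; rfl)
  let Z := (IntMult.ptIdeal ξ).subscheme
  let i := (IntMult.ptIdeal ξ).subschemeι
  letI : Z.Over (Spec (CommRingCat.of k)) := ⟨i ≫ (X ↘ Spec (CommRingCat.of k))⟩
  have : IsProper (Z ↘ Spec (CommRingCat.of k)) :=
    inferInstanceAs (IsProper (i ≫ (X ↘ Spec (CommRingCat.of k))))
  have : IsIntegral Z := CohTwo.isIntegral_closure_subscheme rfl
  have hZN : IsNoetherian Z := isNoetherian k
  let O := Coh.structureModule Z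
  have hOi : PicF.IsInvertible O := EulerDeg.isInvertible_structureModule Z
  have hOc : Coh.IsCoh O := isCoh_of_isInvertible hOi
  obtain ⟨n, hn⟩ := Variety2.Dim.exists_height_eq (X ↘ Spec (CommRingCat.of k)) ξ
  have hdimZ : topologicalKrullDim Z = (n : WithBot ℕ∞) :=
    (dim_ptIdeal_subscheme ξ).trans (by rw [Variety2.Dim.dim_closure_singleton, hn]; rfl)
  change Bd k P 0 ((Coh.push i).obj O)
  have hiv := inv_pull i hinv
  rw [bd_push_iff i rfl hinv]
  cases n with
  | zero =>
    exact ⟨Module.finrank k (Coh.HH Z O 0), fun L hL =>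
      (NumTriv.h0_eq_of_dim_zero k hdimZ.le hOc (hiv L hL)).le⟩
  | succ n =>
  have hAZ : CohB1.IsAmple ((Scheme.Modules.pullback i).obj A) :=
    Ega2Proj.isAmple_pullback i i.isClosedEmbedding.isInducing hA
  obtain ⟨BZ, hBZ, hAB⟩ := exists_isInverseOf hAZ.1
  obtain ⟨b, hb⟩ := exists_no_section hdimZ hAZ hAB hiv (curve_pull i rfl hinv hcb)
  let AZ := (Scheme.Modules.pullback i).obj A
  have hAb : CohB1.IsAmple (CohB1.tensorPow AZ (b + 1)) := (Ega2Proj.isAmple_tensorPow_iff hAZ.1 _ b.succ_pos).1 hAZ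
  obtain ⟨p, t, hgt, -, -⟩ := exists_affine_gloc_finite hAb {genericPoint Z} (Set.finite_singleton _) ⊤
    (fun _ _ => trivial)
  let P₁ := CohB1.tensorPow (CohB1.tensorPow AZ (b + 1)) (p + 1)
  let P₁' := CohB1.tensorPow (CohB1.tensorPow BZ (b + 1)) (p + 1)
  have hP₁ : PicF.IsInvertible P₁ := isInvertible_tensorPow hAb.1 _
  have hP₁' : PicF.IsInvertible P₁' := isInvertible_tensorPow (isInvertible_tensorPow hBZ _) _
  let f := mulSec t O
  have ht : t ≠ 0 := by
    intro h
    have hb := mulSec_stalk_bijective t O (hgt rfl)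
    have hz : mulSec t O = 0 := by
      ext V a
      change (mulSec t O).app V a = 0
      rw [mulSec_app, h, res_zero]
      exact tmulSec_zero_right a
    rw [hz, Functor.map_zero] at hb
    have : Nontrivial (O.presheaf.stalk (genericPoint Z)) :=
      (RefRank.oneEquiv (genericPoint Z)).toEquiv.nontrivial_congr.1 inferInstance
    obtain ⟨a, ha⟩ := exists_ne (0 : O.presheaf.stalk (genericPoint Z))
    exact ha (hb.1 rfl)
  have : Mono f := mono_mulSec_of_ne_zero hP₁ ht hOi
  have hOP : Coh.IsCoh (CohB1.tensorMod O P₁) := RefRank.isCoh_tensorMod hOc (isCoh_of_isInvertible hP₁)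
  have := hOc.1
  have := hOP.1
  let Q := CohB1.tensorMod (cokernel f) P₁'
  have hQ : Coh.IsCoh Q :=
    RefRank.isCoh_tensorMod (QCohMod.isCoh_cokernel f hOP) (isCoh_of_isInvertible hP₁')
  have hQs : genericPoint Z ∉ CohB1.support Q := fun h =>
    support_cokernel_mulSec_subset t O (HilbStab.support_tensorMod_subset hP₁' _ h) (hgt rfl)
  have hr : Set.range i = closure ({ξ} : Set X) :=
    Groth.PropsBasic2.range_vanishingIdeal_subschemeι ⟨closure {ξ}, isClosed_closure⟩
  obtain ⟨C, hC⟩ := (bd_push_iff i rfl hinv 0 Q).1 <| hsmall ((Coh.push i).obj Q)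
    (CohTwo.isCoh_push i hQ) ((CohTwo.support_push_subset i Q).trans hr.le)
    (fun h => hQs (fun hs => by
      have h' : i (genericPoint Z) ∈ CohB1.support ((Scheme.Modules.pushforward i).obj Q) := by
        rw [CohTwo.apply_genericPoint_eq i hr]; exact h
      exact h'  (@Equiv.subsingleton _ _ (Equiv.ofBijective _
        (CohTwo.bijective_pushStalk i Q (genericPoint Z))) hs)))
  refine ⟨C, fun L hL => ?_⟩
  let T := CohB1.tensorMod P₁' L
  have hT : PicF.IsInvertible T := isInvertible_tensorMod hP₁' (hiv L hL)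
  have hle := finrank_h0_le_add k (shortExact_tensorRightMod hT (CohTwo.cokerSeq_shortExact f))
    (RefRank.isCoh_tensorMod hOc (isCoh_of_isInvertible hT))
    (RefRank.isCoh_tensorMod hOP (isCoh_of_isInvertible hT))
    (RefRank.isCoh_tensorMod (QCohMod.isCoh_cokernel f hOP) (isCoh_of_isInvertible hT))
  change Module.finrank k (Coh.HH Z (CohB1.tensorMod (CohB1.tensorMod O P₁) T) 0) ≤
    Module.finrank k (Coh.HH Z (CohB1.tensorMod O T) 0) +
      Module.finrank k (Coh.HH Z (CohB1.tensorMod (cokernel f) T) 0) at hle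
  obtain ⟨eB⟩ := tensorPow_mul BZ (b + 1) (p + 1)
  have hz : Module.finrank k (Coh.HH Z (CohB1.tensorMod O T) 0) = 0 := by
    rw [finrank_congr ((tensor_one T).some ≪≫ (tensor_comm P₁' L).some ≪≫
      (tensor_congr ⟨Iso.refl L⟩ ⟨eB.symm⟩).some) 0]
    have hq : (b + 1) * (p + 1) = ((b + 1) * (p + 1) - 1) + 1 := by
      have : 0 < (b + 1) * (p + 1) := by positivity
      omega
    rw [hq]
    refine hb _ ?_ L hL
    have : (b + 1) * 1 ≤ (b + 1) * (p + 1) := Nat.mul_le_mul_left _ (by omega)
    omega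
  rw [hz, zero_add, finrank_congr ((tensor_assoc O P₁ T).some ≪≫ (tensor_congr ⟨Iso.refl O⟩
      ⟨(tensor_assoc P₁ P₁' _).some.symm ≪≫
        (tensor_congr (PicAux.isInverseOf_tensorPow (PicAux.isInverseOf_tensorPow hAB (b + 1)) (p + 1))
          ⟨Iso.refl _⟩).some ≪≫
        (tensor_one _).some⟩).some),
    ← finrank_congr (tensor_assoc (cokernel f) P₁' L).some] at hle
  exact hle.trans (hC L hL)

end Groth.Misc13.Kleiman
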