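import Groth.Agent.Misc13.Kleiman.Step
import Groth.Agent.Misc13.Kleiman.Dual
import Groth.Agent.Misc13.NumTriv.TauOpen.Criterion

/-!
# Uniform regularity of families with bounded intersection numbers

Twists of a coherent module on a closed subscheme of projective space by the members of a family with
bounded degrees on curves and self-intersections bounded below on surfaces are uniformly regular and
have bounded cohomology.
-/

set_option autoImplicit false
set_option linter.unusedSectionVars false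
set_option linter.style.haveILetI false

universe u

open CategoryTheory CategoryTheory.Limits AlgebraicGeometry TopologicalSpace Opposite

namespace Groth.Misc13.Kleiman

open Groth.Inter Groth.PicAux Groth.HilbStab Groth.PropsBasic.Ample Groth.Misc13.NumTriv

variable {k : Type u} [Field k] {X : Scheme.{u}} [instX : X.Over (Spec (CommRingCat.of k))]
  [IsProper (X ↘ Spec (CommRingCat.of k))] {n : ℕ} (i : X ⟶ CohB1.ProjSpace n k) [IsClosedImmersion i]
  {P : X.Modules → Prop}

/-- A member of the family of modules supported on `closure {ξ}`: as `regular_step`, for all of them. -/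
theorem killed_step (hi : i ≫ CohB1.ProjSpace.toSpec n k = X ↘ Spec (CommRingCat.of k))
    {A : X.Modules} (hA : CohB1.IsAmple A) (hP : ∀ L, P L → PicF.IsInvertible L) (hcb : CurveBdd k P)
    (ξ : X)
    (hsmall : ∀ G : X.Modules, Coh.IsCoh G → CohB1.support G ⊆ closure {ξ} → ξ ∉ CohB1.support G →
      Good k i P G)
    {G : X.Modules} (hG : Coh.IsCoh G) (hGY : CohB1.support G ⊆ closure {ξ}) :
    Good₂ k i P G ∧
      ((∃ d₀ : ℤ, Bd k P 1 (Pic13.twistOn k i G d₀)) → ∀ d : ℤ, Bd k P 1 (Pic13.twistOn k i G d)) ∧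
      ((∀ d : ℤ, Bd k P 1 (Pic13.twistOn k i G d)) → Good k i P G) := by
  have hN : IsNoetherian X := isNoetherian k
  have := quasiSeparatedSpace_of_quasiSeparated (X ↘ Spec (CommRingCat.of k))
  haveI := hG.1
  have hN1 : PicF.IsInvertible (Twist.twistProjSpace n k 1) := PnCoh.isInvertible_twist n k 1
  obtain ⟨t₀, ht₀⟩ := VarietyBC.GGen.exists_mem_gloc hN1
    (Variety2.Reg.DetByGlobal.isGloballyGenerated (Variety2.Reg.detByGlobal_twist (n := n) (k := k) 1)) (i ξ)
  let t : Γ((Scheme.Modules.pullback i).obj (Twist.twistProjSpace n k 1), (⊤ : X.Opens)) :=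
    pullSec i (Twist.twistProjSpace n k 1) t₀
  have hξt : ξ ∈ gloc t := by
    have e := gloc_pullSec i hN1 t₀
    exact e.symm ▸ ht₀
  obtain ⟨G', p, hp, hG', hker, hmono⟩ := exists_quotient hG t inferInstance
  haveI := hG.1
  haveI := hG'.1
  let S := ShortComplex.mk (kernel.ι p) p (kernel.condition p)
  have hS : S.ShortExact :=
    { exact := ShortComplex.exact_of_f_is_kernel _ (kernelIsKernel p) }
  have hK : Coh.IsCoh (kernel p) := QCohMod.isCoh_kernel p hG
  obtain ⟨hKb, mK, hmK⟩ : Good k i P (kernel p) :=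
    hsmall _ hK ((KTheory.Devissage.support_subset_of_mono (kernel.ι p)).trans hGY) (hker ξ hξt)
  obtain ⟨⟨h₂, m, hm⟩, hall, hgood⟩ := regular_step i hP hi hA hcb ξ hsmall hG'
    ((KTheory.Devissage.support_subset_of_epi p).trans hGY) t hξt hmono
  have hSd : ∀ d : ℤ, (S.map
      (DCoh.tensorRightMod ((Scheme.Modules.pullback i).obj (Twist.twistProjSpace n k d)))).ShortExact :=
    fun d => shortExact_tensorRightMod (isInvertible_tw k i d) hS
  have hmid : ∀ (q : ℕ) (d : ℤ), Bd k P q (Pic13.twistOn k i G' d) → Bd k P q (Pic13.twistOn k i G d) :=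
    fun q d h => bd_mid (hSd d) (isCoh_twistOn k i hK d) (isCoh_twistOn k i hG d)
      (isCoh_twistOn k i hG' d) hP (hKb q d) h
  have hquot : ∀ (q : ℕ) (d : ℤ), Bd k P q (Pic13.twistOn k i G d) → Bd k P q (Pic13.twistOn k i G' d) :=
    fun q d h => bd_right (hSd d) (isCoh_twistOn k i hK d) (isCoh_twistOn k i hG d)
      (isCoh_twistOn k i hG' d) hP h (hKb (q + 1) d)
  refine ⟨⟨fun q d hq => hmid q d (h₂ q d hq), max m mK, fun L hL q j hq hj => ?_⟩, ?_, ?_⟩
  · have hc : ∀ {F : X.Modules}, Coh.IsCoh F → Coh.IsCoh (CohB1.tensorMod F L) :=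
      fun hF => RefRank.isCoh_tensorMod hF (isCoh_of_isInvertible (hP L hL))
    have hle : mK ≤ j + (q : ℤ) := by
      have := le_max_right m mK
      omega
    have h0 : Pic13.IsMRegular k i (CohB1.tensorMod (kernel p) L) (j + (q : ℤ)) :=
      mReg_mono k i (hc hK) (hmK L hL) hle
    have h1 : Subsingleton (Coh.HH X (Pic13.twistOn k i (CohB1.tensorMod (kernel p) L) j) q) := by
      have h := h0 q (by omega)
      rwa [show j + (q : ℤ) - (q : ℤ) = j by ring] at h
    have h3 : Subsingleton (Coh.HH X (Pic13.twistOn k i (CohB1.tensorMod G' L) j) q) :=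
      hm L hL q j hq ((le_max_left _ _).trans hj)
    exact Variety2.Reg.subsingleton_mid k
      (shortExact_tensorRightMod (isInvertible_tw k i j) (shortExact_tensorRightMod (hP L hL) hS))
      h1 h3
  · rintro ⟨d₀, h⟩ d
    exact hmid 1 d (hall ⟨d₀, hquot 1 d₀ h⟩ d)
  · intro h
    have hg : Good k i P G' := hgood fun d => hquot 1 d (h d)
    have hk : Good k i P (kernel p) := ⟨hKb, mK, hmK⟩
    exact good_ext i hP (S := S) hS hK hG hG' hk hg

omit [IsClosedImmersion i] in
/-- Twists by `O(d)` commute with direct images from closed subschemes. -/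
theorem nonempty_tw_comp {Z : Scheme.{u}} (j : Z ⟶ X) (d : ℤ) :
    Nonempty ((Scheme.Modules.pullback j).obj ((Scheme.Modules.pullback i).obj (Twist.twistProjSpace n k d)) ≅
      Duality.Closed.tw (j ≫ i) d) :=
  ⟨(Scheme.Modules.pullbackComp j i).app _⟩

/-- In dimension at least three the first cohomology is bounded in one degree. -/
theorem exists_h1_ge_three (hi : i ≫ CohB1.ProjSpace.toSpec n k = X ↘ Spec (CommRingCat.of k))
    {A : X.Modules} (hA : CohB1.IsAmple A) (hP : Fam k P) (ξ : X) {e : ℕ}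
    (he : topologicalKrullDim (closure ({ξ} : Set X)) = ((e + 3 : ℕ) : WithBot ℕ∞))
    (h₂ : Good₂ k i P (Cyc.closureStructureSheaf ξ)) :
    ∃ d₀ : ℤ, Bd k P 1 (Pic13.twistOn k i (Cyc.closureStructureSheaf ξ) d₀) := by
  have hN : IsNoetherian X := isNoetherian k
  let Z := (IntMult.ptIdeal ξ).subscheme
  let j : Z ⟶ X := (IntMult.ptIdeal ξ).subschemeι
  letI : Z.Over (Spec (CommRingCat.of k)) := ⟨j ≫ (X ↘ Spec (CommRingCat.of k))⟩
  haveI : IsProper (Z ↘ Spec (CommRingCat.of k)) :=
    inferInstanceAs (IsProper (j ≫ (X ↘ Spec (CommRingCat.of k))))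
  haveI : IsIntegral Z := CohTwo.isIntegral_closure_subscheme rfl
  have hZN : IsNoetherian Z := isNoetherian k
  let O := Coh.structureModule Z
  have hOc : Coh.IsCoh O := isCoh_of_isInvertible (EulerDeg.isInvertible_structureModule Z)
  obtain ⟨ω, a, f, hω, hf, hdual⟩ := exists_dual (k := k) (j ≫ i)
    (show (j ≫ i) ≫ CohB1.ProjSpace.toSpec n k = Z ↘ Spec (CommRingCat.of k) by
      rw [Category.assoc, hi]; rfl)
    ((dim_ptIdeal_subscheme ξ).trans he)
  obtain ⟨-, m, hm⟩ := h₂
  refine ⟨-a - m, ?_⟩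
  let tX := fun d : ℤ => (Scheme.Modules.pullback i).obj (Twist.twistProjSpace n k d)
  let tZ := fun d : ℤ => Duality.Closed.tw (j ≫ i) d
  have htX : ∀ d, PicF.IsInvertible (tX d) := isInvertible_tw k i
  have htZ : ∀ d, PicF.IsInvertible (tZ d) := fun d =>
    PicAux.isInvertible_pullback _ (PnCoh.isInvertible_twist n k d)
  have hiv := inv_pull j hP.inv
  have hωa : Coh.IsCoh (CohB1.tensorMod ω (tZ a)) :=
    RefRank.isCoh_tensorMod hω (isCoh_of_isInvertible (htZ a))
  haveI := hOc.1
  haveI := hωa.1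
  haveI := hf
  have hCc : Coh.IsCoh (cokernel f) := QCohMod.isCoh_cokernel f hωa
  let d₀ : ℤ := -a - m
  have hAZ : CohB1.IsAmple ((Scheme.Modules.pullback j).obj A) :=
    Ega2Proj.isAmple_pullback j j.isClosedEmbedding.isInducing hA
  obtain ⟨C, hC⟩ := bd_zero hAZ hiv (curve_pull j rfl hP.inv hP.curve)
    (RefRank.isCoh_tensorMod hCc (isCoh_of_isInvertible (htZ d₀)))
  refine ⟨C, fun L hL => ?_⟩
  let LZ := (Scheme.Modules.pullback j).obj L
  let T := CohB1.tensorMod (tZ d₀) LZ
  have hLZ : PicF.IsInvertible LZ := PicAux.isInvertible_pullback j (hP.inv L hL)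
  have hT : PicF.IsInvertible T := isInvertible_tensorMod (htZ d₀) hLZ
  have hc : ∀ {F : Z.Modules}, Coh.IsCoh F → Coh.IsCoh (CohB1.tensorMod F T) :=
    fun hF => RefRank.isCoh_tensorMod hF (isCoh_of_isInvertible hT)
  -- from `X` to `Z`
  obtain ⟨u⟩ := nonempty_tw_comp i j d₀
  obtain ⟨c, -⟩ := exists_pullback_tensorMod j (tX d₀) L
  have eT : (Scheme.Modules.pullback j).obj (CohB1.tensorMod (tX d₀) L) ≅ T :=
    c ≪≫ (tensor_congr ⟨u⟩ ⟨Iso.refl LZ⟩).some
  refine le_of_eq_of_le
    ((finrank_congr (tensor_assoc (Cyc.closureStructureSheaf ξ) (tX d₀) L).some 1).trans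
      ((finrank_push j rfl (isInvertible_tensorMod (htX d₀) (hP.inv L hL)) O 1).trans
        (finrank_congr (tensor_congr ⟨Iso.refl O⟩ ⟨eT⟩).some 1))) ?_
  -- the vanishing
  obtain ⟨L', hL'i, hLL'⟩ := exists_isInverseOf (hP.inv L hL)
  let M := CohB1.tensorMod ((Scheme.Modules.pullback j).obj L') (tZ m)
  let M' := CohB1.tensorMod LZ (tZ (-m))
  have hMM' : ClSub.IsInverseOf M M' :=
    PicAux.isInverseOf_tensorMod (PicAux.isInverseOf_symm (PicAux.isInverseOf_pullback j hLL'))
      (Duality.Closed.isInverseOf_tw (j ≫ i) m)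
  have hMi : PicF.IsInvertible M := isInvertible_tensorMod (PicAux.isInvertible_pullback j hL'i) (htZ m)
  have hMv : Subsingleton (Coh.HH Z M (e + 2)) := by
    obtain ⟨u⟩ := nonempty_tw_comp i j m
    obtain ⟨c, -⟩ := exists_pullback_tensorMod j L' (tX m)
    have eM : (Scheme.Modules.pullback j).obj (CohB1.tensorMod L' (tX m)) ≅ M :=
      c ≪≫ (tensor_congr ⟨Iso.refl _⟩ ⟨u⟩).some
    have h := hm L' (hP.symm L L' hL hLL') (e + 2) m (by omega) le_rfl
    have h' : Module.finrank k (Coh.HH Z M (e + 2)) = 0 := by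
      rw [← finrank_congr ((tensor_one M).some) (e + 2),
        ← finrank_congr (tensor_congr ⟨Iso.refl O⟩ ⟨eM⟩).some (e + 2),
        ← finrank_push j rfl (isInvertible_tensorMod hL'i (htX m)) O (e + 2),
        ]
      exact (finrank_congr (tensor_assoc (Cyc.closureStructureSheaf ξ) L' (tX m)).some (e + 2)).symm.trans
        (@Module.finrank_zero_of_subsingleton _ _ _ _ _ _ h)
    haveI := (finCoh k (isCoh_of_isInvertible hMi)).finite (e + 2)
    exact Module.finrank_zero_iff.1 h'
  have hω0 := hdual M M' hMi hMM' (e + 2) (by omega) hMv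
  obtain ⟨e₁⟩ := Duality.Pn.nonempty_twist_tensor n k a d₀
  obtain ⟨c₁, -⟩ := exists_pullback_tensorMod (j ≫ i) (Twist.twistProjSpace n k a) (Twist.twistProjSpace n k d₀)
  have eω : CohB1.tensorMod (CohB1.tensorMod ω (tZ a)) T ≅ CohB1.tensorMod ω M' :=
    (tensor_assoc ω (tZ a) T).some ≪≫ (tensor_congr ⟨Iso.refl ω⟩
      ⟨(tensor_assoc (tZ a) (tZ d₀) LZ).some.symm ≪≫ (tensor_congr
        ⟨c₁.symm ≪≫ (Scheme.Modules.pullback (j ≫ i)).mapIso
          (e₁ ≪≫ eqToIso (congrArg (Twist.twistProjSpace n k) (show a + (-a - m) = -m by ring)))⟩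
        ⟨Iso.refl LZ⟩).some ≪≫ (tensor_comm _ LZ).some⟩).some
  have hS := shortExact_tensorRightMod hT (CohTwo.cokerSeq_shortExact f)
  have hle := finrank_left (k := k) hS (hc hOc) (hc hωa) (hc hCc) 0
  change Module.finrank k (Coh.HH Z (CohB1.tensorMod O T) 1) ≤
    Module.finrank k (Coh.HH Z (CohB1.tensorMod (cokernel f) T) 0) +
      Module.finrank k (Coh.HH Z (CohB1.tensorMod (CohB1.tensorMod ω (tZ a)) T) 1) at hle
  rw [finrank_congr eω 1, @Module.finrank_zero_of_subsingleton _ _ _ _ _ _ hω0, add_zero,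
    finrank_congr (tensor_assoc (cokernel f) (tZ d₀) LZ).some.symm 0] at hle
  exact hle.trans (hC LZ ⟨L, hL, ⟨Iso.refl _⟩⟩)

/-- In dimension at most two the first cohomology is bounded in one degree. -/
theorem exists_h1_le_two {A : X.Modules} (hA : CohB1.IsAmple A) (hP : Fam k P) (ξ : X)
    (he : topologicalKrullDim (closure ({ξ} : Set X)) ≤ ((2 : ℕ) : WithBot ℕ∞))
    (h₂ : Good₂ k i P (Cyc.closureStructureSheaf ξ)) :
    ∃ d₀ : ℤ, Bd k P 1 (Pic13.twistOn k i (Cyc.closureStructureSheaf ξ) d₀) := by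
  have hN : IsNoetherian X := isNoetherian k
  obtain ⟨-, m, hm⟩ := h₂
  let G := Cyc.closureStructureSheaf ξ
  have hG : Coh.IsCoh G := KTheory.Devissage.isCoh_closureStructureSheaf ξ
  have hGY : CohB1.support G ⊆ closure {ξ} := KTheory.Devissage.support_closureStructureSheaf_subset ξ
  let W := Pic13.twistOn k i G m
  have hW : Coh.IsCoh W := isCoh_twistOn k i hG m
  have hWY : CohB1.support W ⊆ closure {ξ} :=
    (HilbStab.support_tensorMod_subset (isInvertible_tw k i m) G).trans hGY
  obtain ⟨C, hC⟩ := bd_zero hA hP.inv hP.curve hW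
  have hχ : ∀ L, P L → Curv2.euler k X (CohB1.tensorMod L W) =
      (Module.finrank k (Coh.HH X (CohB1.tensorMod W L) 0) : ℤ) -
        (Module.finrank k (Coh.HH X (CohB1.tensorMod W L) 1) : ℤ) := by
    intro L hL
    rw [EulerDeg.euler_congr k (tensor_comm L W).some, EulerDeg.euler_eq_sum (k := k) (N := 2)
      fun q hq => Inter.subsingleton_HH_of_iso k (twistOn_tensor k i G L m).some (hm L hL q m hq le_rfl)]
    rw [Finset.sum_range_succ, Finset.sum_range_one]
    ring
  refine ⟨m, ?_⟩
  rcases lt_or_eq_of_le he with h1 | h2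
  · obtain ⟨b, hb⟩ := hP.curve W hW
      ((LocCohTransform.topologicalKrullDim_mono hWY).trans (lt_natCast_succ_iff.1 h1))
    refine ⟨C + b + (Curv2.euler k X W).natAbs, fun L hL => ?_⟩
    have := hb L hL
    rw [delta_cons, delta_nil, delta_nil] at this
    have := hχ L hL
    have := hC L hL
    change Module.finrank k (Coh.HH X (CohB1.tensorMod W L) 1) ≤ _
    omega
  · obtain ⟨b, hb⟩ := hP.surf ξ h2
    refine ⟨C + C + b + 2 * (Curv2.euler k X W).natAbs, fun L hL => ?_⟩
    obtain ⟨L', hL'i, hLL'⟩ := exists_isInverseOf (hP.inv L hL)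
    have hLi := hP.inv L hL
    have hdW : topologicalKrullDim (CohB1.support W) ≤ ((2 : ℕ) : WithBot ℕ∞) :=
      (LocCohTransform.topologicalKrullDim_mono hWY).trans he
    have hdG : topologicalKrullDim (CohB1.support G) ≤ ((2 : ℕ) : WithBot ℕ∞) :=
      (LocCohTransform.topologicalKrullDim_mono hGY).trans he
    -- the self-intersection does not see the twist
    have ht : delta k [L, L] W = delta k [L, L] G := by
      have hz : delta k [(Scheme.Modules.pullback i).obj (Twist.twistProjSpace n k m), L, L] G = 0 :=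
        delta_eq_zero k _ (by simpa using ⟨isInvertible_tw k i m, hLi⟩) G hG
          (lt_natCast_succ_iff.2 hdG)
      rw [delta_cons, delta_congr k [L, L] (tensor_comm _ G), sub_eq_zero] at hz
      exact hz.symm
    have hinv : delta k [L', L] W = - delta k [L, L] W :=
      delta_inverse_cons k hL'i (PicAux.isInverseOf_symm hLL') (l := [L]) (by simpa using hLi) hW hdW
    have e : CohB1.tensorMod L (CohB1.tensorMod L' W) ≅ W :=
      (tensor_assoc L L' W).some.symm ≪≫ (tensor_congr hLL' ⟨Iso.refl W⟩).some ≪≫ (tensor_one W).some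
    have hexp : delta k [L', L] W = 2 * Curv2.euler k X W -
        Curv2.euler k X (CohB1.tensorMod L W) - Curv2.euler k X (CohB1.tensorMod L' W) := by
      rw [delta_cons, delta_cons, delta_nil, delta_nil, delta_cons, delta_nil, delta_nil,
        EulerDeg.euler_congr k e]
      ring
    have := hb L hL
    have := hχ L hL
    have := hχ L' (hP.symm L L' hL hLL')
    have := hC L hL
    have := hC L' (hP.symm L L' hL hLL')
    change -(b : ℤ) ≤ delta k [L, L] G at *
    change Module.finrank k (Coh.HH X (CohB1.tensorMod W L) 1) ≤ _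
    omega

/-- Uniform regularity and bounded cohomology. -/
theorem good (hi : i ≫ CohB1.ProjSpace.toSpec n k = X ↘ Spec (CommRingCat.of k))
    {A : X.Modules} (hA : CohB1.IsAmple A) (hP : Fam k P) {F : X.Modules} (hF : Coh.IsCoh F) :
    Good k i P F := by
  have hN : IsNoetherian X := isNoetherian k
  refine CohTwo.coh_induction (Good k i P) (fun _ _ e h => good_iso i e.some h)
    (fun _ h => good_isZero i h) (fun S hS a b c p q => good_ext i hP.inv hS a b c p q)
    (CohB1.support F) ?_ (CohTwo.isClosed_support F hF) F hF subset_rfl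
  intro Y ξ hY _ G hG hkill hsmall
  obtain rfl : Y = ⟨closure {ξ}, isClosed_closure⟩ := Closeds.ext hY
  have hGY : CohB1.support G ⊆ closure {ξ} :=
    haveI := hG.1
    hkill.support_subset.trans (by rw [Scheme.IdealSheafData.coe_support_vanishingIdeal]; rfl)
  haveI := hG.1
  refine (killed_step i hi hA hP.inv hP.curve ξ hsmall hG hGY).2.2 ?_
  let O := Cyc.closureStructureSheaf ξ
  have hO : Coh.IsCoh O := KTheory.Devissage.isCoh_closureStructureSheaf ξ
  have hOY : CohB1.support O ⊆ closure {ξ} := KTheory.Devissage.support_closureStructureSheaf_subset ξ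
  have hne : Nontrivial ↑(O.presheaf.stalk ξ) :=
    not_subsingleton_iff_nontrivial.1 (show ξ ∈ CohB1.support O from
      (support_closureStructureSheaf_eq k ξ) ▸ subset_closure rfl)
  obtain ⟨hO₂, hOall, -⟩ := killed_step i hi hA hP.inv hP.curve ξ hsmall hO hOY
  have hO1 : ∀ d : ℤ, Bd k P 1 (Pic13.twistOn k i O d) := by
    refine hOall ?_
    obtain ⟨e, he⟩ := Variety2.Dim.exists_height_eq (X ↘ Spec (CommRingCat.of k)) ξ
    have hde : topologicalKrullDim (closure ({ξ} : Set X)) = ((e : ℕ) : WithBot ℕ∞) := by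
      rw [Variety2.Dim.dim_closure_singleton, he]; rfl
    rcases le_or_gt e 2 with hle | hlt
    · exact exists_h1_le_two i hA hP ξ (hde.le.trans (Nat.cast_le.2 hle)) hO₂
    · obtain ⟨e', rfl⟩ : ∃ e', e = e' + 3 := ⟨e - 3, by omega⟩
      exact exists_h1_ge_three i hi hA hP ξ hde hO₂
  -- from `O` to `G`
  let T := fun d : ℤ => DCoh.tensorRightMod ((Scheme.Modules.pullback i).obj (Twist.twistProjSpace n k d))
  haveI := hG.1
  refine CohTwo.step_two (fun F => ∀ d : ℤ, Bd k P 1 (Pic13.twistOn k i F d))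
    (fun M h d => bd_isZero ((T d).map_isZero h) 1)
    (fun S hS a b c => ⟨fun p _ d => ?_, fun p q d => ?_⟩)
    (fun F' r hr hF' h d => ?_)
    (Y := closure ({ξ} : Set X)) (fun M hM h1 h2 d => (hsmall M hM h1 h2).1 1 d) hO hO1 hOY
    (fun a ha m => (CohTwo.killed_push_subschemeι (IntMult.ptIdeal ξ)
      (Coh.structureModule (IntMult.ptIdeal ξ).subscheme)).stalk_maximalIdeal
        (Y := ⟨closure {ξ}, isClosed_closure⟩) rfl a ha m)
    hG hGY (fun a ha m => hkill.stalk_maximalIdeal (Y := ⟨closure {ξ}, isClosed_closure⟩) rfl a ha m)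
  · exact bd_left (q := 0) (shortExact_tensorRightMod (isInvertible_tw k i d) hS) (isCoh_twistOn k i a d)
      (isCoh_twistOn k i b d) (isCoh_twistOn k i c d) hP.inv (p d)
      (bd_zero hA hP.inv hP.curve (isCoh_twistOn k i c d))
  · exact bd_mid (shortExact_tensorRightMod (isInvertible_tw k i d) hS) (isCoh_twistOn k i a d)
      (isCoh_twistOn k i b d) (isCoh_twistOn k i c d) hP.inv (p d) (q d)
  · refine bd_retract ((T d).map (Sigma.ι (fun _ : Fin r => F') ⟨0, hr⟩))
      ((T d).map (Sigma.desc fun _ : Fin r => 𝟙 F')) ?_ (isCoh_twistOn k i (CohTwo.isCoh_powMod hF' r) d)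
      hP.inv (h d)
    rw [← Functor.map_comp, Sigma.ι_desc, CategoryTheory.Functor.map_id]

end Groth.Misc13.Kleiman
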