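import Groth.Agent.Misc13.Kleiman.H0

/-!
# The step of the induction: a regular linear section
-/

set_option autoImplicit false
set_option linter.unusedSectionVars false
set_option linter.style.haveILetI false

universe u

open CategoryTheory CategoryTheory.Limits AlgebraicGeometry TopologicalSpace Opposite

namespace Groth.Misc13.Kleiman

open Groth.Inter Groth.PicAux Groth.HilbStab Groth.PropsBasic.Ample Groth.Misc13.NumTriv
open Groth.Variety2 (Reg.fT Reg.pF)

variable (k : Type u) [Field k] {X : Scheme.{u}} [instX : X.Over (Spec (CommRingCat.of k))]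
  [IsProper (X ↘ Spec (CommRingCat.of k))] {n : ℕ} (i : X ⟶ CohB1.ProjSpace n k) [IsClosedImmersion i]

/-- Bounded cohomology and uniform regularity. -/
def Good (P : X.Modules → Prop) (F : X.Modules) : Prop :=
  (∀ (q : ℕ) (d : ℤ), Bd k P q (Pic13.twistOn k i F d)) ∧
    ∃ m : ℤ, ∀ L, P L → Pic13.IsMRegular k i (CohB1.tensorMod F L) m

/-- Higher cohomology vanishes uniformly in high degree and is bounded in every degree. -/
def Good₂ (P : X.Modules → Prop) (F : X.Modules) : Prop :=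
  (∀ (q : ℕ) (d : ℤ), 2 ≤ q → Bd k P q (Pic13.twistOn k i F d)) ∧
    ∃ m : ℤ, ∀ L, P L → ∀ (q : ℕ) (j : ℤ), 2 ≤ q → m ≤ j →
      Subsingleton (Coh.HH X (Pic13.twistOn k i (CohB1.tensorMod F L) j) q)

variable {k} {P : X.Modules → Prop}

theorem good_iso {F G : X.Modules} (e : F ≅ G) (h : Good k i P F) : Good k i P G := by
  obtain ⟨h1, m, h2⟩ := h
  exact ⟨fun q d => bd_iso (twistOn_congr k i e d).some (h1 q d),
    m, fun L hL => mReg_iso k i (tensor_congr ⟨e⟩ ⟨Iso.refl L⟩).some (h2 L hL)⟩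

theorem good_isZero {F : X.Modules} (h : IsZero F) : Good k i P F :=
  ⟨fun q _ => bd_isZero ((DCoh.tensorRightMod _).map_isZero h) q, 0, fun L _ q _ =>
    Variety2.Reg.subsingleton_of_isZero' k
      ((DCoh.tensorRightMod _).map_isZero ((DCoh.tensorRightMod L).map_isZero h)) q⟩

variable (hP : ∀ L, P L → PicF.IsInvertible L)
include hP

theorem good_ext {S : ShortComplex X.Modules} (hS : S.ShortExact) (h₁ : Coh.IsCoh S.X₁)
    (h₂ : Coh.IsCoh S.X₂) (h₃ : Coh.IsCoh S.X₃) (b₁ : Good k i P S.X₁) (b₃ : Good k i P S.X₃) :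
    Good k i P S.X₂ := by
  obtain ⟨d₁, m₁, r₁⟩ := b₁
  obtain ⟨d₃, m₃, r₃⟩ := b₃
  refine ⟨fun q d => ?_, max m₁ m₃, fun L hL q hq => ?_⟩
  · exact bd_mid (S := S.map (DCoh.tensorRightMod _))
      (shortExact_tensorRightMod (isInvertible_tw k i d) hS) (isCoh_twistOn k i h₁ d)
      (isCoh_twistOn k i h₂ d) (isCoh_twistOn k i h₃ d) hP (d₁ q d) (d₃ q d)
  · have hc : ∀ {F : X.Modules}, Coh.IsCoh F → Coh.IsCoh (CohB1.tensorMod F L) :=
      fun hF => RefRank.isCoh_tensorMod hF (isCoh_of_isInvertible (hP L hL))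
    exact Variety2.Reg.subsingleton_mid k
      (shortExact_tensorRightMod (isInvertible_tw k i _) (shortExact_tensorRightMod (hP L hL) hS))
      (mReg_mono k i (hc h₁) (r₁ L hL) (le_max_left _ _) q hq)
      (mReg_mono k i (hc h₃) (r₃ L hL) (le_max_right _ _) q hq)

/-- A module with a regular linear section whose zero locus is good: higher cohomology is good, `H¹` is
bounded everywhere once it is bounded somewhere, and then the module is good. -/
theorem regular_step (hi : i ≫ CohB1.ProjSpace.toSpec n k = X ↘ Spec (CommRingCat.of k))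
    {A : X.Modules} (hA : CohB1.IsAmple A) (hcb : CurveBdd k P) (ξ : X)
    (hsmall : ∀ G : X.Modules, Coh.IsCoh G → CohB1.support G ⊆ closure {ξ} → ξ ∉ CohB1.support G →
      Good k i P G)
    {G : X.Modules} (hG : Coh.IsCoh G) (hGY : CohB1.support G ⊆ closure {ξ})
    (t : Γ((Scheme.Modules.pullback i).obj (Twist.twistProjSpace n k 1), (⊤ : X.Opens)))
    (hξt : ξ ∈ gloc t) (hmono : Mono (mulSec t G)) :
    Good₂ k i P G ∧
      ((∃ d₀ : ℤ, Bd k P 1 (Pic13.twistOn k i G d₀)) → ∀ d : ℤ, Bd k P 1 (Pic13.twistOn k i G d)) ∧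
      ((∀ d : ℤ, Bd k P 1 (Pic13.twistOn k i G d)) → Good k i P G) := by
  have hN : IsNoetherian X := isNoetherian k
  haveI := hG.1
  let G₁ := Pic13.twistOn k i G (-1)
  have hG₁ : Coh.IsCoh G₁ := isCoh_twistOn k i hG _
  haveI := hG₁.1
  have hm₁ : Mono (mulSec t G₁) := by
    obtain ⟨e, he⟩ := exists_swap_mulSec t G
      ((Scheme.Modules.pullback i).obj (Twist.twistProjSpace n k (-1)))
    have h1 : Mono ((DCoh.tensorRightMod ((Scheme.Modules.pullback i).obj
        (Twist.twistProjSpace n k (-1)))).map (mulSec t G)) :=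
      (shortExact_tensorRightMod (isInvertible_tw k i _) (CohTwo.cokerSeq_shortExact (mulSec t G))).mono_f
    have h2 : Mono e.hom := inferInstance
    have h3 := @mono_comp _ _ _ _ _ _ h1 e.hom h2
    rw [he] at h3
    exact h3
  let e₀ : CohB1.tensorMod G₁ ((Scheme.Modules.pullback i).obj (Twist.twistProjSpace n k 1)) ≅ G :=
    (twistOn_add k i G (show (-1 : ℤ) + 1 = 0 by norm_num)).some ≪≫ (twistOn_zero k i G).some
  let ι := mulSec t G₁ ≫ e₀.hom
  have : Mono ι := mono_comp _ _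
  let Q := cokernel ι
  have hQ : Coh.IsCoh Q := QCohMod.isCoh_cokernel ι hG
  haveI := hQ.1
  have hQY : CohB1.support Q ⊆ closure {ξ} :=
    (KTheory.Devissage.support_subset_of_epi (cokernel.π ι)).trans hGY
  have hQξ : ξ ∉ CohB1.support Q := fun h => by
    have h' := support_subset_of_iso (cokernelCompIsIso (mulSec t G₁) e₀.hom) h
    exact support_cokernel_mulSec_subset t G₁ h' hξt
  obtain ⟨hQb, m, hm⟩ := hsmall Q hQ hQY hQξ
  have hfacts : ∀ L : X.Modules, P L →
      (∀ (q : ℕ) (j : ℤ), 2 ≤ q → m - q ≤ j →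
        Subsingleton (Coh.HH X (Pic13.twistOn k i (CohB1.tensorMod G L) j) q)) ∧
      (∀ j : ℤ, m - 1 + (Module.finrank k
          (Coh.HH X (Pic13.twistOn k i (CohB1.tensorMod G L) (m - 1)) 1) : ℤ) ≤ j →
        Subsingleton (Coh.HH X (Pic13.twistOn k i (CohB1.tensorMod G L) j) 1)) := by
    intro L hL
    have hc : ∀ {F : X.Modules}, Coh.IsCoh F → Coh.IsCoh (CohB1.tensorMod F L) :=
      fun hF => RefRank.isCoh_tensorMod hF (isCoh_of_isInvertible (hP L hL))
    have hGL := hc hG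
    haveI := hGL.1
    haveI := (hc hG₁).1
    haveI := (hc hQ).1
    let S := (ShortComplex.mk ι (cokernel.π ι) (cokernel.condition ι)).map (DCoh.tensorRightMod L)
    have hS : S.ShortExact := shortExact_tensorRightMod (hP L hL) (Variety2.Reg.cokernel_shortExact ι)
    haveI : S.X₁.IsQuasicoherent := (hc hG₁).1
    haveI : S.X₂.IsQuasicoherent := hGL.1
    haveI : S.X₃.IsQuasicoherent := (hc hQ).1
    have hp := KTheory.PushProps.shortExact_push i hS
    haveI := hp.mono_f
    obtain ⟨θ, -⟩ := PnCoh.exists_projectionFormula i (CohB1.tensorMod G L)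
      (PnCoh.isInvertible_twist n k (-1))
    let φ : Reg.fT (Reg.pF i (CohB1.tensorMod G L)) (-1) ≅
        (S.map (Scheme.Modules.pushforward i)).X₁ :=
      θ ≪≫ (Scheme.Modules.pushforward i).mapIso (twistOn_tensor k i G L (-1)).some
    let ι' : CohB1.tensorMod (Reg.pF i (CohB1.tensorMod G L)) (Twist.twistProjSpace n k (-1)) ⟶
        Reg.pF i (CohB1.tensorMod G L) := φ.hom ≫ (S.map (Scheme.Modules.pushforward i)).f
    haveI hmι : Mono ι' := mono_comp φ.hom (S.map (Scheme.Modules.pushforward i)).f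
    let c : cokernel ι' ≅ Reg.pF i (CohB1.tensorMod Q L) :=
      cokernelEpiComp φ.hom (S.map (Scheme.Modules.pushforward i)).f ≪≫
        (cokernelIsCokernel _).coconePointUniqueUpToIso hp.gIsCokernel
    have hreg : Curv2.IsMRegular k n (cokernel ι') m := fun q hq hqn =>
      Variety2.Reg.subsingleton_of_iso (X := CohB1.ProjSpace n k) k
        (tensor_congr ⟨c⟩ ⟨Iso.refl (Twist.twistProjSpace n k (m - q))⟩).some.symm
        (Variety2.Reg.mReg_pF i _ (hm L hL) q hq hqn)
    obtain ⟨f1, -, f3⟩ := Variety2.Reg.cokernel_twist_facts (Variety2.Reg.isCoh_pF i _ hGL) ι' hreg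
    refine ⟨fun q j hq hj => (Variety2.Reg.subsingleton_twistOn_iff i _ j q).2 (f1 q j hq hj),
      fun j hj => (Variety2.Reg.subsingleton_twistOn_iff i _ j 1).2 (f3 j ?_)⟩
    rwa [finrank_twistOn k i hi]
  -- the sequences in every degree
  have hSd : ∀ d : ℤ, ((ShortComplex.mk ι (cokernel.π ι) (cokernel.condition ι)).map
      (DCoh.tensorRightMod ((Scheme.Modules.pullback i).obj (Twist.twistProjSpace n k d)))).ShortExact :=
    fun d => shortExact_tensorRightMod (isInvertible_tw k i d) (Variety2.Reg.cokernel_shortExact ι)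
  have e₁ : ∀ d : ℤ, Pic13.twistOn k i G₁ d ≅ Pic13.twistOn k i G (d - 1) := fun d =>
    (twistOn_add k i G (show -1 + d = d - 1 by ring)).some
  have hdown : ∀ (q : ℕ) (d : ℤ), Bd k P (q + 1) (Pic13.twistOn k i G d) →
      Bd k P (q + 1) (Pic13.twistOn k i G (d - 1)) := fun q d h =>
    bd_iso (e₁ d) (bd_left (hSd d) (isCoh_twistOn k i hG₁ d) (isCoh_twistOn k i hG d)
      (isCoh_twistOn k i hQ d) hP h (hQb q d))
  have hup : ∀ (q : ℕ) (d : ℤ), Bd k P q (Pic13.twistOn k i G (d - 1)) →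
      Bd k P q (Pic13.twistOn k i G d) := fun q d h =>
    bd_mid (hSd d) (isCoh_twistOn k i hG₁ d) (isCoh_twistOn k i hG d) (isCoh_twistOn k i hQ d) hP
      (bd_iso (e₁ d).symm h) (hQb q d)
  have hall : ∀ q : ℕ, (∃ d₀ : ℤ, Bd k P (q + 1) (Pic13.twistOn k i G d₀)) →
      ∀ d : ℤ, Bd k P (q + 1) (Pic13.twistOn k i G d) := by
    rintro q ⟨d₀, h₀⟩ d
    induction d using Int.inductionOn' (b := d₀) with
    | zero => exact h₀
    | succ j _ ih => exact hup _ _ (by rwa [add_sub_cancel_right])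
    | pred j _ ih => exact hdown _ _ ih
  have hG₂ : Good₂ k i P G := by
    refine ⟨fun q d hq => ?_, m, fun L hL q j hq hj => (hfacts L hL).1 q j hq (by omega)⟩
    obtain ⟨q, rfl⟩ : ∃ q', q = q' + 1 := ⟨q - 1, by omega⟩
    refine hall q ⟨m, 0, fun L hL => ?_⟩ d
    haveI : Subsingleton (Coh.HH X (CohB1.tensorMod (Pic13.twistOn k i G m) L) (q + 1)) :=
      Inter.subsingleton_HH_of_iso k (twistOn_tensor k i G L m).some
        ((hfacts L hL).1 (q + 1) m hq (by omega))
    rw [Module.finrank_zero_of_subsingleton]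
  refine ⟨hG₂, hall 0, fun h1 => ?_⟩
  obtain ⟨C, hC⟩ := h1 (m - 1)
  refine ⟨fun q d => ?_, m + C, fun L hL q hq => ?_⟩
  · rcases (show q = 0 ∨ q = 1 ∨ 2 ≤ q by omega) with rfl | rfl | hq2
    · exact bd_zero hA hP hcb (isCoh_twistOn k i hG d)
    · exact h1 d
    · exact hG₂.1 q d hq2
  · rcases (show q = 1 ∨ 2 ≤ q by omega) with rfl | hq2
    · refine (hfacts L hL).2 _ ?_
      have := hC L hL
      rw [finrank_congr (twistOn_tensor k i G L (m - 1)).some.symm 1] at this
      omega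
    · exact (hfacts L hL).1 q _ hq2 (by omega)

end Groth.Misc13.Kleiman
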